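import Cfsg.Agent.Omega.Lie.CenTwo
import Cfsg.Agent.OddHalf.D4.Spor.Sheet

/-!
# (ZS) from the fact sheets of the ODD half
-/

set_option autoImplicit false

namespace Cfsg.Agent.Omega.Lie.Cen.OfSheet

open Cfsg Cfsg.Agent.Omega.Lie.CenTwo Cfsg.Agent.OddHalf.D4

/-- the field `z1` of the sheet of D4 -/
theorem cenTwo {X : Type*} [Group X] (h : Spor.Sheet X) : CenTwo.CenTwo X := by
  obtain ⟨S⟩ : Nonempty (Sylow 2 X) := inferInstance
  by_cases hz : ∃ a ∈ S, a * a = 1 ∧ a ≠ 1 ∧ ∀ s ∈ S, s * a = a * s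
  · obtain ⟨a, ha, haa, ha1, hac⟩ := hz
    refine ⟨S, a, fun u hu hc huu => ?_⟩
    by_cases hu1 : u = 1
    · exact Or.inl hu1
    · exact Or.inr (h.z1 S u hu huu hu1 hc a ha haa ha1 hac)
  · refine ⟨S, 1, fun u hu hc huu => ?_⟩
    by_contra hne
    exact hz ⟨u, hu, huu, fun h1 => hne (Or.inl h1), hc⟩

/-- the field `z1` of the sheet of D4 -/
theorem noCenMove {X : Type*} [Group X] [Finite X] (h : Spor.Sheet X) : NoCenMove X := (cenTwo h).noCenMove

end Cfsg.Agent.Omega.Lie.Cen.OfSheet
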