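import Cfsg.Agent.Omega.Lie.Cen.OfSheet
import Cfsg.Agent.OddHalf.D4.Spor.Suz

/-!
# (ZS), the row `Suz` (helper415)
-/

set_option autoImplicit false

namespace Cfsg.Agent.Omega.Lie.Cen

open Cfsg Cfsg.Agent.Omega.Lie.CenTwo

theorem suz {X : Type*} [Group X] (h : Spor.IsoSuz X) : NoCenMove X := by
  have : Finite Cfsg.Spor.Suz := OddHalf.D4.Spor.Suz.fin
  have hX := OfSheet.noCenMove OddHalf.D4.Spor.Suz.sheet
  obtain ⟨e⟩ := h
  have : Finite X := Finite.of_equiv Cfsg.Spor.Suz e.symm.toEquiv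
  exact NoCenMove.map e.symm hX

end Cfsg.Agent.Omega.Lie.Cen
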