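import Cfsg.Agent.Omega.Lie.CenLarge
import Cfsg.Agent.KFacts.FiTT.Final

/-!
# (ZS), the row `Fi22` (helper918)
-/

set_option autoImplicit false

namespace Cfsg.Agent.Omega.Lie.Cen

open Cfsg Subgroup Cfsg.Agent.Omega.Lie.CenTwo

theorem cenTwo_fi22 {K : Type*} [Group K] (h : Spor.IsoFi22 K) : CenTwo.CenTwo K := by
  obtain ⟨d, d', R, F⟩ := KFacts.FiTT.has_of_iso h
  have : Finite K := Nat.finite_of_card_ne_zero (by rw [F.card]; norm_num)
  have hodd : ¬ 2 ∣ (centralizer ({d * d'} : Set K)).index := by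
    intro h
    have := F.odd
    rw [← Nat.not_even_iff_odd] at this
    exact this (even_iff_two_dvd.2 h)
  obtain ⟨S, hS⟩ := exists_sylow_le hodd
  exact ⟨S, d * d', fun u hu hc _ => F.center_S S hS u hu fun y hy => (hc y hy).symm⟩

theorem fi22 {X : Type*} [Group X] (h : Spor.IsoFi22 X) : NoCenMove X := by
  obtain ⟨d, d', R, F⟩ := KFacts.FiTT.has_of_iso h
  have : Finite X := Nat.finite_of_card_ne_zero (by rw [F.card]; norm_num)
  exact (cenTwo_fi22 h).noCenMove

end Cfsg.Agent.Omega.Lie.Cen
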