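import Cfsg.Agent.Omega.Lie.CenLarge
import Cfsg.Agent.KFacts.Baby.RowB

/-!
# (ZS), the row `B` (helper918)
-/

set_option autoImplicit false

namespace Cfsg.Agent.Omega.Lie.Cen

open Cfsg Cfsg.Agent.Omega.Lie.CenTwo Cfsg.Agent.BabyM Cfsg.Agent.BabyM.Model Cfsg.Agent.BabyU.ClosLane

theorem cenTwo_b : CenTwo.CenTwo Inst.M.G :=
  have := A.finite_G
  cenTwo_of_large (KFacts.Baby.Inst.large A)

theorem b {X : Type*} [Group X] (h : Spor.IsoB X) : NoCenMove X := by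
  obtain ⟨e⟩ := KFacts.Baby.RowB.exists_iso h
  have := A.finite_G
  exact noCenMove_of_iso cenTwo_b ⟨e.symm⟩

end Cfsg.Agent.Omega.Lie.Cen
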