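import Cfsg.Agent.Omega.Lie.CenLarge
import Cfsg.Agent.KFacts.Co3.Syl

/-!
# (ZS), the row `Co3` (helper484)
-/

set_option autoImplicit false

namespace Cfsg.Agent.Omega.Lie.Cen

open Cfsg Cfsg.Agent.Omega.Lie.CenTwo Cfsg.Agent.SporRec.Co3.Chain

theorem map_G3 : G3.map Co0.subtype = Spor.Co3 := by
  ext g
  constructor
  · rintro ⟨x, hx, rfl⟩
    exact ⟨x.2, hx⟩
  · rintro ⟨h1, h2⟩
    exact ⟨⟨g, h1⟩, h2, rfl⟩

theorem co3 {X : Type*} [Group X] (h : Spor.IsoCo3 X) : NoCenMove X := by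
  have hf := KFacts.Co3.Syl.finite_G3
  obtain ⟨S, -, -, hS⟩ := KFacts.Co3.Syl.syl
  have h1 : CenTwo.CenTwo G3 := ⟨S, _, fun u hu hc _ => hS u hu hc⟩
  obtain ⟨e⟩ := h
  exact noCenMove_of_iso h1 ⟨e.trans ((Subgroup.equivMapOfInjective G3 Co0.subtype Subtype.val_injective).trans
    (MulEquiv.subgroupCongr map_G3)).symm⟩

end Cfsg.Agent.Omega.Lie.Cen
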