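import Cfsg.Agent.Omega.Lie.CenLarge
import Cfsg.Agent.KFacts.Co1.InCo1

/-!
# (ZS), the row `Co₁` (helper856)
-/

set_option autoImplicit false

namespace Cfsg.Agent.Omega.Lie.Cen

open Cfsg Cfsg.Agent.Omega.Lie.CenTwo

theorem co1 {X : Type*} [Group X] (h : Spor.IsoCo1 X) : NoCenMove X := by
  obtain ⟨e⟩ := h
  obtain ⟨o, ho⟩ := Cfsg.Agent.CoOneType.ClosingCo1.exists_octad
  have : Finite Co0 := Cfsg.Agent.CoOneType.FrameFix.finite_co0
  have : Finite Spor.Co1 := by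
    have : Finite (Co0 ⧸ Subgroup.center Co0) :=
      inferInstance
    exact this
  exact noCenMove_of_iso (cenTwo_of_large (Cfsg.Agent.KFacts.Co1.InCo1.large ho)) ⟨e⟩

end Cfsg.Agent.Omega.Lie.Cen
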