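import Cfsg.Agent.Omega.Lie.CenLarge
import Cfsg.Agent.KFacts.HS.Cent5

/-!
# (ZS), the row `HS` (helper484)
-/

set_option autoImplicit false

namespace Cfsg.Agent.Omega.Lie.Cen

open Cfsg Cfsg.Agent.Omega.Lie.CenTwo Cfsg.Agent.KFacts.HS Cfsg.Agent.KFacts.HS.Cent
open Cfsg.Agent.HN Cfsg.Agent.HN.Pres Cfsg.Agent.HN.HS100 Cfsg.Agent.HN.H0Basic
open Cfsg.Agent.HN.P1408 hiding U
open Cfsg.Agent.HN.XMat Cfsg.Agent.HN.WMask

theorem sg_sq (e : Bool) : sg e * sg e = 1 := by
  rw [sg_mul]; cases e <;> rfl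

theorem b_ne : (b : H0) ≠ 1 := by
  intro h
  have h1 : sg true = sg false := h
  exact absurd (sg_inj h1) (by decide)

theorem b_ne_τ : (b : H0) ≠ τ := by
  intro h
  apply bτ_ne
  rw [h, τ_mul_τ]

theorem cenTwo_hs {L : Type*} [Group L] [Finite L] (D : Cfsg.Agent.KFacts.HS.Mod L) : CenTwo.CenTwo L := by
  have hE : IsPGroup 2 ((Rt.subgroupOf K).map D.π) := by
    apply IsPGroup.map
    intro x
    refine ⟨2, Subtype.ext (Subtype.ext ?_)⟩
    obtain ⟨m, hm, -, e, he⟩ := mem_Rt.1 (Subgroup.mem_subgroupOf.1 x.2)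
    show ((x : K) : H0) ^ (2 ^ 2) = 1
    rw [he]
    obtain ⟨e1, h1⟩ := R_sq m
    calc (R m * sg e) ^ (2 ^ 2) = (R m * (sg e * R m) * sg e) * (R m * (sg e * R m) * sg e) := by
          rw [show (2 : ℕ) ^ 2 = 4 by norm_num, pow_succ, pow_succ, pow_succ, pow_one]; group
      _ = ((R m * R m) * (sg e * sg e)) * ((R m * R m) * (sg e * sg e)) := by rw [R_sg]; group
      _ = 1 := by rw [h1, sg_sq, mul_one, sg_sq]
  refine cenTwo_of_centralizer hE (z := D.π ⟨b, b_mem_K⟩) ?_
  intro u hu huu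
  obtain ⟨h, rfl⟩ := D.surj u
  have key : ∀ r ∈ Rt, (h : H0) * r * (h : H0)⁻¹ = r ∨ (h : H0) * r * (h : H0)⁻¹ = r * τ := by
    intro r hr
    have hrK : r ∈ K := hr.2
    have h1 := hu (D.π ⟨r, hrK⟩) ⟨⟨r, hrK⟩, hr, rfl⟩
    rw [← map_mul, ← map_mul, eq_comm, D.eq_iff] at h1
    rcases h1 with h1 | h1
    · left
      have h2 : (h : H0) * r = r * h := h1
      rw [h2]; group
    · right
      have h2 : (h : H0) * r = r * h * τ := h1
      rw [h2, mul_assoc (r * (h : H0)), ← τ_comm]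
      group
  have hU := key U U_mem_Rt
  have hb : (h : H0) * b = b * h := by
    rw [← mul_inv_eq_iff_eq_mul]
    have e : (h : H0) * b * (h : H0)⁻¹ = ((h : H0) * U * (h : H0)⁻¹) * ((h : H0) * U * (h : H0)⁻¹) := by
      rw [← U_sq]; group
    rw [e]
    rcases hU with h1 | h1 <;> rw [h1]
    · exact U_sq
    · calc U * τ * (U * τ) = U * (τ * U) * τ := by group
        _ = U * (U * τ) * τ := by rw [← τ_comm]
        _ = (U * U) * (τ * τ) := by group
        _ = b := by rw [τ_mul_τ, mul_one, U_sq]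
  have huu' : (h : H0) * h = 1 ∨ (h : H0) * h = τ := by
    rw [← map_mul] at huu
    exact (D.ker _).1 huu
  have hUU : ∀ e : Bool, U * sg e * (U * sg e) = b := by
    intro e
    have h1 : sg e * U = U * sg e := R_sg 28 e
    calc U * sg e * (U * sg e) = U * (sg e * U) * sg e := by group
      _ = (U * U) * (sg e * sg e) := by rw [h1]; group
      _ = b := by rw [sg_sq, mul_one, U_sq]
  have hbad : (h : H0) * h ≠ b := by
    intro h1
    rcases huu' with h2 | h2
    · exact b_ne (h1.symm.trans h2)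
    · exact b_ne_τ (h1.symm.trans h2)
  have fin : ∀ e : Bool, (h : H0) = sg e ∨ (h : H0) = sg e * τ → D.π h = 1 ∨ D.π h = D.π ⟨b, b_mem_K⟩ := by
    intro e he
    cases e
    · left
      rw [← map_one D.π, D.eq_iff]
      exact he
    · right
      rw [D.eq_iff]
      exact he
  obtain ⟨e, h1 | h1 | h1 | h1⟩ := fixR hb key
  · exact fin e (Or.inl h1)
  · exact fin e (Or.inr (by rw [h1, τ_comm]))
  · exact absurd (by rw [h1]; exact hUU e) hbad
  · refine absurd ?_ hbad
    rw [h1]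
    calc U * τ * sg e * (U * τ * sg e) = U * (τ * (sg e * U)) * τ * sg e := by group
      _ = U * ((sg e * U) * τ) * τ * sg e := by rw [τ_comm (sg e * U)]
      _ = U * sg e * (U * (τ * τ) * sg e) := by group
      _ = b := by rw [τ_mul_τ, mul_one, hUU e]

theorem hs {X : Type*} [Group X] (h : Spor.IsoHS X) : NoCenMove X := by
  obtain ⟨D⟩ := exists_mod h
  have hf : Finite X := Nat.finite_of_card_ne_zero (by rw [Cfsg.Agent.KFacts.HS.card h]; norm_num)
  exact (cenTwo_hs D).noCenMove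

end Cfsg.Agent.Omega.Lie.Cen
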