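import Cfsg.Agent.Omega.Lie.Cen.JTwoModel
import Cfsg.Agent.Schreier.JThreeSylow

/-!
# (ZS), the row `J3` (helper484)
-/

set_option autoImplicit false

namespace Cfsg.Agent.Omega.Lie.Cen

open Cfsg Cfsg.Agent.Omega.Lie.CenTwo

theorem j3 {X : Type*} [Group X] (h : Spor.IsoJ3 X) : NoCenMove X := by
  obtain ⟨F, _, _, ω, hF, hω, h⟩ := h
  have H := Cfsg.Agent.J3.Core.good_of_card hF hω
  have hc := Cfsg.Agent.J3.Simple.card_J3 hF H
  have hfin : Finite (Cfsg.Spor.J3 F ω) := Nat.finite_of_card_ne_zero (by rw [hc]; norm_num)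
  obtain ⟨S⟩ : Nonempty (Sylow 2 (Cfsg.Spor.J3 F ω)) := inferInstance
  obtain ⟨f⟩ := Schreier.JThreeSylow.exists_equiv hF H S
  exact noCenMove_of_iso (cenTwo_of_typeJTwo f) h

end Cfsg.Agent.Omega.Lie.Cen
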