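import Cfsg.Agent.Omega.Lie.CenCover
import Cfsg.Agent.TypeM.FactsLy

/-!
# (ZS), the row `Ly` (helper484)
-/

set_option autoImplicit false

namespace Cfsg.Agent.Omega.Lie.Cen

open Cfsg Cfsg.Agent.Omega.Lie.CenTwo

theorem ly {X : Type*} [Group X] (h : Spor.IsoLy X) : NoCenMove X := by
  obtain ⟨hf, -, -, ⟨L⟩⟩ := TypeM.FactsLy.facts h
  exact (cenTwo_of_mt L).noCenMove

end Cfsg.Agent.Omega.Lie.Cen
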