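import Cfsg.Agent.Omega.Lie.CenLarge
import Cfsg.Agent.MTwelveType.SylowModel

/-!
# (ZS), the row `M12` (helper484)
-/

set_option autoImplicit false

namespace Cfsg.Agent.Omega.Lie.Cen

open Cfsg Cfsg.Agent.Omega.Lie.CenTwo Cfsg.Agent.ClassificationK.GTwoModel

theorem m12_aux : ∀ (i j : ZMod 4) (e d : Bool),
    (1 + i = i + sg 4 e * (cond d 0 1)) → (j = j + sg 4 e * (cond d 1 0)) →
    (-(cond false j i) = i) → (-j = j) → (cond true j i = i) → e = false ∧ d = false ∧ ((i = 0 ∧ j = 0) ∨ (i = 2 ∧ j = 2)) := by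
  decide +kernel

/-- the centre of `T 4` -/
theorem cen_T4 (u : T 4) (h : ∀ x : T 4, x * u = u * x) : u = 1 ∨ u = ⟨2, 2, false, false⟩ := by
  obtain ⟨i, j, e, d⟩ := u
  have h1 := h ⟨1, 0, false, false⟩
  have h2 := h ⟨0, 0, true, false⟩
  have h3 := h ⟨0, 0, false, true⟩
  rw [T.mul_mk, T.mul_mk, T.mk.injEq] at h1 h2 h3
  have key := m12_aux i j e d (by simpa using h1.1) (by simpa using h1.2.1) (by
    have := h2.1
    simp at this
    exact this) (by
    have := h2.2.1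
    simp at this
    exact this) (by
    have := h3.1
    simp at this
    exact this)
  obtain ⟨rfl, rfl, ⟨rfl, rfl⟩ | ⟨rfl, rfl⟩⟩ := key
  · left; rfl
  · right; rfl

theorem cenTwo_m12 : CenTwo.CenTwo Spor.M12 := by
  obtain ⟨S⟩ : Nonempty (Sylow 2 Spor.M12) := inferInstance
  obtain ⟨f⟩ := MTwelveType.SylowModel.exists_equiv S
  exact cenTwo_of_sylow_equiv f.symm (z := (⟨2, 2, false, false⟩ : T 4)) fun u hu _ => cen_T4 u hu

theorem m12 {X : Type*} [Group X] (h : Spor.IsoM12 X) : NoCenMove X := noCenMove_of_iso cenTwo_m12 h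

end Cfsg.Agent.Omega.Lie.Cen
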