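import Cfsg.Agent.Omega.Lie.CenLarge
import Cfsg.Agent.KFacts.MM.Main

/-!
# (ZS), the rows `M22`, `M23` (helper484)
-/

set_option autoImplicit false

namespace Cfsg.Agent.Omega.Lie.Cen

open Cfsg Cfsg.Agent.Omega.Lie.CenTwo

theorem cenTwo_of_mm {K : Type*} [Group K] [Finite K] {SK V W : Subgroup K} {z c : K} (h : OddHalf.MM.Sheet SK V W z c) :
    CenTwo.CenTwo K := by
  obtain ⟨S, hS⟩ := h.two.exists_le_sylow
  have e : (S : Subgroup K) = SK := h.max S S.isPGroup' hS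
  refine ⟨S, z, fun u hu hc _ => h.cen u (by rw [← e]; exact hu) fun s hs => hc s ?_⟩
  have : s ∈ (S : Subgroup K) := by rw [e]; exact hs
  exact this

theorem m22 {X : Type*} [Group X] (h : Spor.IsoM22 X) : NoCenMove X := by
  obtain ⟨SK, V, W, z, c, hs⟩ := KFacts.MM.Main.sheet22
  exact noCenMove_of_iso (cenTwo_of_mm hs) h

theorem m23 {X : Type*} [Group X] (h : Spor.IsoM23 X) : NoCenMove X := by
  obtain ⟨SK, V, W, z, c, hs⟩ := KFacts.MM.Main.sheet23
  exact noCenMove_of_iso (cenTwo_of_mm hs) h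

end Cfsg.Agent.Omega.Lie.Cen
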