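import Cfsg.Agent.Omega.Lie.CenLarge
import Cfsg.Agent.KFacts.M24Two.QGroup
import Cfsg.Prelude.Def_Spor_Mathieu

/-!
# (ZS), the row `M24` (helper484)
-/

set_option autoImplicit false

namespace Cfsg.Agent.Omega.Lie.Cen

open Cfsg Cfsg.Agent.Omega.Lie.CenTwo

theorem cenTwo_m24 : CenTwo.CenTwo M24 := cenTwo_of_large KFacts.M24Two.QGroup.large

theorem m24 {X : Type*} [Group X] (h : Spor.IsoM24 X) : NoCenMove X := noCenMove_of_iso cenTwo_m24 h

end Cfsg.Agent.Omega.Lie.Cen
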