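import Cfsg.Agent.Omega.Lie.CenLarge
import Cfsg.Agent.Omega.Lie.Cen.OfSheet
import Cfsg.Agent.OddHalf.D4.Spor.M11
import Cfsg.Agent.OddHalf.D4.Spor.ON
import Cfsg.Agent.OddHalf.D4.Spor.HN
import Cfsg.Agent.OddHalf.D4.Spor.Ru
import Cfsg.Agent.OddHalf.D4.Spor.ThSheet
import Cfsg.Agent.OddHalf.D4.Spor.MonsterFinal
import Cfsg.Agent.OddHalf.D8.RowCo2
import Cfsg.Agent.KFacts.FiTF.SheetF
import Cfsg.Agent.KFacts.J4.SheetJ4

/-!
# (ZS), sporadic rows from the fact sheets of the ODD half (helper844)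

The sheets of D8 (`syl : Z(S) = ⟨z⟩`) and of D4 (`z1`) give `CenTwo`, hence `NoCenMove`: the rows `m11`, `on`, `hn`, `th`,
`m`, `ru`, `fi24`, `co2`, `j4` of `KFacts.RowsZS`.
-/

set_option autoImplicit false

namespace Cfsg.Agent.Omega.Lie.Cen.Sheets

open Cfsg Cfsg.Agent.Omega.Lie.CenTwo

/-- the field `syl` of the sheets of D8 -/
theorem cenTwo_of_syl {X : Type*} [Group X] {z : X} (h : ∃ S : Sylow 2 X, z ∈ S ∧ (∀ x ∈ S, x * z = z * x) ∧
    ∀ y ∈ S, (∀ x ∈ S, x * y = y * x) → y = 1 ∨ y = z) : CenTwo X := by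
  obtain ⟨S, -, -, h⟩ := h
  exact ⟨S, z, fun u hu hc _ => h u hu hc⟩

variable {X : Type*} [Group X] [Finite X]

theorem m11 (h : Spor.IsoM11 X) : NoCenMove X := OfSheet.noCenMove (OddHalf.D4.Spor.M11.sheet h)

theorem on (h : Spor.IsoON X) : NoCenMove X := OfSheet.noCenMove (OddHalf.D4.Spor.ON.sheet h)

theorem hn (h : Spor.IsoHN X) : NoCenMove X := by
  obtain ⟨e⟩ := h
  exact OfSheet.noCenMove (OddHalf.D4.Spor.HN.sheet_of_equiv e)

theorem th (h : Spor.IsoTh X) : NoCenMove X := OfSheet.noCenMove (OddHalf.D4.Spor.ThSheet.sheet_of_iso h)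

theorem m (h : Spor.IsoM X) : NoCenMove X := OfSheet.noCenMove (OddHalf.D4.Spor.MonsterFinal.sheet h)

theorem ru (h : Spor.IsoRu X) : NoCenMove X := OfSheet.noCenMove (OddHalf.D4.Spor.Ru.sheet h)

theorem fi24 (h : Spor.IsoFi24' X) : NoCenMove X := by
  obtain ⟨e⟩ := h
  have : Finite Spor.Fi24' := Finite.of_equiv X e.toEquiv
  have h1 : CenTwo Spor.Fi24' := cenTwo_of_syl KFacts.FiTF.sheetE.syl
  exact h1.noCenMove.map e.symm

theorem co2 (h : Spor.IsoCo2 X) : NoCenMove X := by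
  obtain ⟨z, P, R, h1, -⟩ := OddHalf.D8.RowCo2.facts X inferInstance h
  exact (cenTwo_of_syl h1.syl).noCenMove

theorem j4 (h : Spor.IsoJ4 X) : NoCenMove X := by
  obtain ⟨z, P, R, h1⟩ := KFacts.J4.SheetJ4.exists_sheet h
  exact (cenTwo_of_syl h1.syl).noCenMove

end Cfsg.Agent.Omega.Lie.Cen.Sheets
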