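import Cfsg.Agent.Omega.Lie.CenLarge
import Cfsg.Agent.J2Sylow.Model

/-!
# (ZS): the centre of the Sylow 2-subgroup of `J2`, `J3` (helper484)
-/

set_option autoImplicit false

namespace Cfsg.Agent.Omega.Lie.Cen

open Cfsg.Agent.Omega.Lie.CenTwo Cfsg.Agent.J2Sylow.Model Cfsg.Agent.J2Sylow.Model.F4

theorem cen_T : ∀ u : T, (⟨o, o, w, false⟩ : T) * u = u * ⟨o, o, w, false⟩ →
    (⟨e, o, o, false⟩ : T) * u = u * ⟨e, o, o, false⟩ → (⟨o, e, o, false⟩ : T) * u = u * ⟨o, e, o, false⟩ →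
    (⟨o, o, o, true⟩ : T) * u = u * ⟨o, o, o, true⟩ → u = 1 ∨ u = ⟨o, o, e, false⟩ := by
  decide +kernel

/-- groups with Sylow 2-subgroups of type `J2` -/
theorem cenTwo_of_typeJTwo {X : Type*} [Group X] {S : Sylow 2 X} (f : T ≃* (S : Subgroup X)) : CenTwo.CenTwo X :=
  cenTwo_of_sylow_equiv f.symm (z := ⟨o, o, e, false⟩) fun u hu _ => cen_T u (hu _) (hu _) (hu _) (hu _)

end Cfsg.Agent.Omega.Lie.Cen
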