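import Cfsg.Agent.Omega.Lie.Cen.OfSheet
import Cfsg.Agent.OddHalf.D4.Spor.Ru

/-!
# (ZS), the row `Ru` (helper856)
-/

set_option autoImplicit false

namespace Cfsg.Agent.Omega.Lie.Cen

open Cfsg Cfsg.Agent.Omega.Lie.CenTwo

theorem ru {X : Type*} [Group X] (h : Spor.IsoRu X) : NoCenMove X := by
  have : Finite X := OddHalf.D4.Spor.RuIso.finite h
  exact OfSheet.noCenMove (OddHalf.D4.Spor.Ru.sheet h)

end Cfsg.Agent.Omega.Lie.Cen
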